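import Mathlib.RingTheory.GradedAlgebra.Basic
import Mathlib.Algebra.Algebra.Operations
import Mathlib.RingTheory.Adjoin.Basic
import Mathlib.Algebra.GCDMonoid.Finset
import Mathlib.Algebra.GCDMonoid.Nat
import Mathlib.Algebra.Group.Submonoid.Finsupp

set_option autoImplicit false
universe u

open DirectSum

namespace Groth.Agent.GrBasics

variable {R A : Type u} [CommRing R] [CommRing A] [Algebra R A] (𝒜 : ℕ → Submodule R A) [GradedAlgebra 𝒜]
  {s : ℕ} (f : Fin s → A) (deg : Fin s → ℕ)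

theorem monomial_mem (hf : ∀ i, f i ∈ 𝒜 (deg i)) (c : Fin s → ℕ) :
    ∏ i, f i ^ c i ∈ 𝒜 (∑ i, c i * deg i) := by
  have := SetLike.prod_mem_graded 𝒜 (fun i => c i • deg i) (fun i => f i ^ c i)
    (fun i (_ : i ∈ Finset.univ) => SetLike.pow_mem_graded (c i) (hf i))
  simpa using this

/-- A graded piece is spanned by the monomials of that degree. -/
theorem piece_le_span_monomial (hf : ∀ i, f i ∈ 𝒜 (deg i))
    (hgen : Algebra.adjoin R (Set.range f) = ⊤) (n : ℕ) :
    𝒜 n ≤ Submodule.span R {m | ∃ c : Fin s → ℕ, ∑ i, c i * deg i = n ∧ ∏ i, f i ^ c i = m} := by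
  classical
  intro a ha
  have hmem : a ∈ Submodule.span R (Submonoid.closure (Set.range f) : Set A) := by
    rw [← Algebra.adjoin_eq_span, hgen]; trivial
  rw [← decompose_of_mem_same 𝒜 ha]
  clear ha
  induction hmem using Submodule.span_induction with
  | mem x hx =>
    obtain ⟨c, rfl⟩ := (Submonoid.mem_closure_range_iff_of_fintype).mp hx
    by_cases h : ∑ i, c i * deg i = n
    · rw [decompose_of_mem_same 𝒜 (h ▸ monomial_mem 𝒜 f deg hf c)]
      exact Submodule.subset_span ⟨c, h, rfl⟩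
    · rw [decompose_of_mem_ne 𝒜 (monomial_mem 𝒜 f deg hf c) h]
      exact zero_mem _
  | zero => simp
  | add x y _ _ hx hy => simpa [decompose_add] using add_mem hx hy
  | smul r x _ hx =>
    rw [decompose_smul, DirectSum.smul_apply, Submodule.coe_smul]
    exact Submodule.smul_mem _ r hx

theorem lcm_pos (hdeg : ∀ i, 0 < deg i) : 0 < Finset.univ.lcm deg := by
  rw [Nat.pos_iff_ne_zero, ne_eq, Finset.lcm_eq_zero_iff]
  rintro ⟨i, _, hi⟩
  exact (hdeg i).ne' hi

/-- Splitting off degree `lcm` beyond the bound. -/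
theorem piece_add_lcm (hdeg : ∀ i, 0 < deg i) (hf : ∀ i, f i ∈ 𝒜 (deg i))
    (hgen : Algebra.adjoin R (Set.range f) = ⊤) (n : ℕ)
    (hn : (s - 1) * (Finset.univ.lcm deg - 1) ≤ n) :
    𝒜 (n + Finset.univ.lcm deg) = 𝒜 n * 𝒜 (Finset.univ.lcm deg) := by
  classical
  set l := Finset.univ.lcm deg with hl
  have hl0 : 0 < l := lcm_pos deg hdeg
  refine le_antisymm ?_ (Submodule.mul_le.mpr fun a ha b hb => SetLike.mul_mem_graded ha hb)
  refine (piece_le_span_monomial 𝒜 f deg hf hgen _).trans (Submodule.span_le.mpr ?_)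
  rintro _ ⟨c, hc, rfl⟩
  obtain ⟨i, hi⟩ : ∃ i, l ≤ c i * deg i := by
    by_contra hcon
    push Not at hcon
    rcases Nat.eq_zero_or_pos s with rfl | hs
    · simp at hc; omega
    have hle : ∀ i ∈ (Finset.univ : Finset (Fin s)), c i * deg i ≤ l - 1 := fun i _ => by
      have := hcon i; omega
    have h1 := Finset.sum_le_card_nsmul _ _ _ hle
    simp only [Finset.card_univ, Fintype.card_fin, smul_eq_mul] at h1
    have h2 : s * (l - 1) = (s - 1) * (l - 1) + (l - 1) := by
      obtain ⟨t, rfl⟩ := Nat.exists_eq_add_of_le hs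
      rw [show 1 + t - 1 = t from Nat.add_sub_cancel_left 1 t, Nat.add_mul, Nat.one_mul, Nat.add_comm]
    omega
  have hdvd : deg i ∣ l := Finset.dvd_lcm (Finset.mem_univ i)
  obtain ⟨q, hq⟩ := hdvd
  have hqc : q ≤ c i := by
    by_contra hlt
    have := Nat.mul_lt_mul_of_pos_left (not_le.mp hlt) (hdeg i)
    rw [← hq, mul_comm] at this
    omega
  have hsplit : ∀ j, c j = (c j - (if j = i then q else 0)) + (if j = i then q else 0) := fun j => by
    split_ifs with h
    · subst h; omega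
    · omega
  have hprod : ∏ j, f j ^ c j =
      (∏ j, f j ^ (c j - (if j = i then q else 0))) * f i ^ q := by
    rw [show f i ^ q = ∏ j, f j ^ (if j = i then q else 0) by
      simp, ← Finset.prod_mul_distrib]
    exact Finset.prod_congr rfl fun j _ => by rw [← pow_add, ← hsplit j]
  rw [SetLike.mem_coe, hprod]
  refine Submodule.mul_mem_mul ?_ ?_
  · convert monomial_mem 𝒜 f deg hf (fun j => c j - (if j = i then q else 0)) using 2
    have h3 : ∑ j, c j * deg j =
        ∑ j, (c j - (if j = i then q else 0)) * deg j + q * deg i := by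
      rw [show q * deg i = ∑ j, (if j = i then q else 0) * deg j by
        simp, ← Finset.sum_add_distrib]
      exact Finset.sum_congr rfl fun j _ => by rw [← Nat.add_mul, ← hsplit j]
    rw [hc, mul_comm q, ← hq] at h3
    omega
  · rw [hq, mul_comm]
    simpa using SetLike.pow_mem_graded q (hf i)

theorem piece_zero_le_one (hdeg : ∀ i, 0 < deg i) (hf : ∀ i, f i ∈ 𝒜 (deg i))
    (hgen : Algebra.adjoin R (Set.range f) = ⊤) : 𝒜 0 ≤ 1 := by
  refine (piece_le_span_monomial 𝒜 f deg hf hgen 0).trans (Submodule.span_le.mpr ?_)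
  rintro _ ⟨c, hc, rfl⟩
  have h0 : ∀ i, c i = 0 := fun i => by
    have := (Finset.sum_eq_zero_iff.mp hc) i (Finset.mem_univ i)
    simpa [(hdeg i).ne'] using this
  simpa [h0] using Submodule.mem_one.mpr ⟨1, map_one _⟩

theorem piece_pow_le (n k : ℕ) : 𝒜 n ^ k ≤ 𝒜 (k * n) := by
  induction k with
  | zero =>
    rw [pow_zero, Submodule.one_le, Nat.zero_mul]
    exact SetLike.one_mem_graded 𝒜
  | succ k ih =>
    rw [pow_succ, Nat.succ_mul]
    exact (mul_le_mul_left ih _).trans (Submodule.mul_le.mpr fun a ha b hb => SetLike.mul_mem_graded ha hb)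

theorem piece_add_mul_lcm_le (hdeg : ∀ i, 0 < deg i) (hf : ∀ i, f i ∈ 𝒜 (deg i))
    (hgen : Algebra.adjoin R (Set.range f) = ⊤) (n : ℕ)
    (hn : (s - 1) * (Finset.univ.lcm deg - 1) ≤ n) (j : ℕ) :
    𝒜 (n + j * Finset.univ.lcm deg) ≤ 𝒜 n * 𝒜 (Finset.univ.lcm deg) ^ j := by
  induction j with
  | zero => simp
  | succ j ih =>
    rw [Nat.succ_mul, ← Nat.add_assoc,
      piece_add_lcm 𝒜 f deg hdeg hf hgen _ (hn.trans (Nat.le_add_right _ _)), pow_succ, ← mul_assoc]
    exact mul_le_mul_left ih _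

/-- Powers of the piece of degree `a * lcm` exhaust the multiples of that degree. -/
theorem piece_mul_eq_pow (hdeg : ∀ i, 0 < deg i) (hf : ∀ i, f i ∈ 𝒜 (deg i))
    (hgen : Algebra.adjoin R (Set.range f) = ⊤) (a : ℕ) (ha : s - 1 ≤ a) (k : ℕ) :
    𝒜 (k * (a * Finset.univ.lcm deg)) = 𝒜 (a * Finset.univ.lcm deg) ^ k := by
  refine le_antisymm ?_ (piece_pow_le 𝒜 _ k)
  induction k with
  | zero => simpa using piece_zero_le_one 𝒜 f deg hdeg hf hgen
  | succ k ih =>
    rcases Nat.eq_zero_or_pos k with rfl | hk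
    · simp
    set l := Finset.univ.lcm deg
    rw [Nat.succ_mul, pow_succ]
    have hb : (s - 1) * (l - 1) ≤ k * (a * l) :=
      (Nat.mul_le_mul ha (Nat.sub_le l 1)).trans (Nat.le_mul_of_pos_left _ hk)
    exact (piece_add_mul_lcm_le 𝒜 f deg hdeg hf hgen _ hb a).trans
      (mul_le_mul' ih (piece_pow_le 𝒜 l a))

end Groth.Agent.GrBasics
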