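import Mathlib.AlgebraicGeometry.ProjectiveSpectrum.Topology
import Mathlib.RingTheory.GradedAlgebra.Radical
import Mathlib.RingTheory.GradedAlgebra.FiniteType
import Mathlib.RingTheory.GradedAlgebra.Noetherian
import Mathlib.RingTheory.Adjoin.Tower

set_option autoImplicit false
universe u

open DirectSum

namespace Groth.Agent.GrBasics

variable {R A : Type u} [CommRing R] [CommRing A] [Algebra R A] (𝒜 : ℕ → Submodule R A) [GradedAlgebra 𝒜]

/-- A homogeneous element of positive degree outside the radical of a homogeneous ideal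
is avoided by some point of `Proj` containing the ideal. -/
theorem exists_point_of_notMem_radical {I : Ideal A} (hI : I.IsHomogeneous 𝒜) {f : A} {d : ℕ}
    (hd : 0 < d) (hf : f ∈ 𝒜 d) (hfI : f ∉ I.radical) :
    ∃ x : ProjectiveSpectrum 𝒜, I ≤ x.asHomogeneousIdeal.toIdeal ∧ f ∉ x.asHomogeneousIdeal.toIdeal := by
  rw [Ideal.radical_eq_sInf, Submodule.mem_sInf] at hfI
  push Not at hfI
  obtain ⟨J, ⟨hIJ, hJ⟩, hfJ⟩ := hfI
  have hle : (Ideal.homogeneousCore 𝒜 J).toIdeal ≤ J := Ideal.toIdeal_homogeneousCore_le 𝒜 J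
  refine ⟨⟨Ideal.homogeneousCore 𝒜 J, hJ.homogeneousCore,
    fun h => hfJ (hle (h (HomogeneousIdeal.mem_irrelevant_of_mem 𝒜 hd hf)))⟩, ?_, fun h => hfJ (hle h)⟩
  exact hI.toIdeal_homogeneousCore_eq_self.symm.trans_le (Ideal.homogeneousCore_mono _ hIJ)

/-- An element of the irrelevant ideal that lies in every point of `Proj` containing `I` lies in the
radical of `I`. -/
theorem mem_radical_of_forall_point {I : Ideal A} (hI : I.IsHomogeneous 𝒜) {a : A}
    (ha : a ∈ (HomogeneousIdeal.irrelevant 𝒜).toIdeal)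
    (h : ∀ x : ProjectiveSpectrum 𝒜, I ≤ x.asHomogeneousIdeal.toIdeal → a ∈ x.asHomogeneousIdeal.toIdeal) :
    a ∈ I.radical := by
  rw [(hI.radical).mem_iff]
  intro i
  rcases Nat.eq_zero_or_pos i with rfl | hi
  · have h0 : ((decompose 𝒜 a 0 : 𝒜 0) : A) = 0 := by
      simpa [GradedRing.proj_apply] using (HomogeneousIdeal.mem_irrelevant_iff 𝒜 a).mp ha
    rw [h0]
    exact Submodule.zero_mem _
  · by_contra hc
    obtain ⟨x, hIx, hx⟩ := exists_point_of_notMem_radical 𝒜 hI hi (decompose 𝒜 a i).2 hc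
    exact hx (x.asHomogeneousIdeal.isHomogeneous i (h x hIx))

theorem isNilpotent_of_forall_point {a : A} (ha : a ∈ (HomogeneousIdeal.irrelevant 𝒜).toIdeal)
    (h : ∀ x : ProjectiveSpectrum 𝒜, a ∈ x.asHomogeneousIdeal.toIdeal) : IsNilpotent a := by
  have := mem_radical_of_forall_point 𝒜 (Ideal.IsHomogeneous.bot 𝒜) ha (fun x _ => h x)
  obtain ⟨n, hn⟩ := this
  exact ⟨n, hn⟩

/-- Component of a product with a homogeneous element, as a member of a span. -/
theorem decompose_mul_mem {e : A} {d : ℕ} (he : e ∈ 𝒜 d) (a : A) (n : ℕ) :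
    ((decompose 𝒜 (a * e) n : 𝒜 n) : A) = if d ≤ n then (decompose 𝒜 a (n - d) : A) * e else 0 :=
  coe_decompose_mul_of_right_mem 𝒜 n he

/-- Degree induction: a set of homogeneous generators of the irrelevant ideal generates the ring
over degree zero. -/
theorem adjoin_eq_top_of_irrelevant_le_span {E : Set A} (hE : ∀ e ∈ E, ∃ d : ℕ, 0 < d ∧ e ∈ 𝒜 d)
    (h : (HomogeneousIdeal.irrelevant 𝒜).toIdeal ≤ Ideal.span E) :
    Algebra.adjoin (𝒜 0) E = ⊤ := by
  classical
  suffices hh : ∀ n, ∀ a ∈ 𝒜 n, a ∈ Algebra.adjoin (𝒜 0) E by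
    rw [eq_top_iff]
    intro a _
    rw [← DirectSum.sum_support_decompose 𝒜 a]
    exact sum_mem fun i _ => hh i _ (decompose 𝒜 a i).2
  intro n
  induction n using Nat.strong_induction_on with
  | _ n ih =>
    intro a ha
    rcases Nat.eq_zero_or_pos n with rfl | hn
    · exact Subalgebra.algebraMap_mem (Algebra.adjoin (𝒜 0) E) ⟨a, ha⟩
    · have hmem := h (HomogeneousIdeal.mem_irrelevant_of_mem 𝒜 hn ha)
      obtain ⟨c, hsum⟩ := (Finsupp.mem_span_iff_linearCombination A E a).mp hmem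
      rw [← decompose_of_mem_same 𝒜 ha, ← hsum, Finsupp.linearCombination_apply, Finsupp.sum,
        decompose_sum, DFinsupp.finsetSum_apply, AddSubmonoidClass.coe_finsetSum]
      refine sum_mem fun e _ => ?_
      obtain ⟨d, hd, hed⟩ := hE e e.2
      rw [smul_eq_mul, decompose_mul_mem 𝒜 hed]
      split_ifs with hle
      · exact mul_mem (ih (n - d) (by omega) _ (decompose 𝒜 _ _).2) (Algebra.subset_adjoin e.2)
      · exact zero_mem _

theorem irrelevant_eq_span_of_adjoin_eq_top {E : Set A} (hE : ∀ e ∈ E, ∃ d : ℕ, 0 < d ∧ e ∈ 𝒜 d)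
    (h : Algebra.adjoin (𝒜 0) E = ⊤) :
    (HomogeneousIdeal.irrelevant 𝒜).toIdeal = Ideal.span E := by
  have hle : Ideal.span E ≤ (HomogeneousIdeal.irrelevant 𝒜).toIdeal := Ideal.span_le.mpr fun e he => by
    obtain ⟨d, hd, hed⟩ := hE e he
    exact HomogeneousIdeal.mem_irrelevant_of_mem 𝒜 hd hed
  refine le_antisymm ?_ hle
  have key : ∀ a : A, ∃ c ∈ 𝒜 0, a - c ∈ Ideal.span E := by
    intro a
    have ha : a ∈ Algebra.adjoin (𝒜 0) E := by simp [h]
    induction ha using Algebra.adjoin_induction with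
    | mem x hx => exact ⟨0, zero_mem _, by simpa using Ideal.subset_span hx⟩
    | algebraMap r => exact ⟨r.1, r.2, by simp [SetLike.GradeZero.algebraMap_apply]⟩
    | add x y _ _ hx hy =>
      obtain ⟨c, hc, hx⟩ := hx
      obtain ⟨c', hc', hy⟩ := hy
      exact ⟨c + c', add_mem hc hc', by simpa [add_sub_add_comm] using add_mem hx hy⟩
    | mul x y _ _ hx hy =>
      obtain ⟨c, hc, hx⟩ := hx
      obtain ⟨c', hc', hy⟩ := hy
      refine ⟨c * c', by simpa using SetLike.mul_mem_graded hc hc', ?_⟩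
      have : x * y - c * c' = (x - c) * y + c * (y - c') := by ring
      rw [this]
      exact add_mem (Ideal.mul_mem_right _ _ hx) (Ideal.mul_mem_left _ _ hy)
  intro a ha
  obtain ⟨c, hc, hac⟩ := key a
  have h0 := (HomogeneousIdeal.mem_irrelevant_iff 𝒜 _).mp (hle hac)
  have h1 := (HomogeneousIdeal.mem_irrelevant_iff 𝒜 _).mp ha
  simp only [GradedRing.proj_apply, decompose_sub, DirectSum.sub_apply, AddSubgroupClass.coe_sub,
    decompose_of_mem_same 𝒜 hc] at h0 h1
  have hc0 : c = 0 := by rwa [h1, zero_sub, neg_eq_zero] at h0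
  simpa [hc0] using hac

/-- A finitely generated irrelevant ideal has finitely many homogeneous generators of positive degree. -/
theorem exists_finset_span_eq_irrelevant (hfg : (HomogeneousIdeal.irrelevant 𝒜).toIdeal.FG) :
    ∃ s : Finset A, (∀ e ∈ s, ∃ d : ℕ, 0 < d ∧ e ∈ 𝒜 d) ∧
      (HomogeneousIdeal.irrelevant 𝒜).toIdeal = Ideal.span (s : Set A) := by
  classical
  have hsp := HomogeneousIdeal.irrelevant_eq_span 𝒜
  rw [hsp] at hfg
  obtain ⟨t, hts, ht⟩ := Submodule.fg_span_iff_fg_span_finset_subset _ |>.mp hfg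
  refine ⟨t, fun e he => ?_, hsp.trans ht⟩
  obtain ⟨i, hi, hei⟩ := Set.mem_iUnion₂.mp (hts he)
  exact ⟨i, hi, hei⟩

theorem irrelevant_fg_of_finiteType [Algebra.FiniteType (𝒜 0) A] :
    (HomogeneousIdeal.irrelevant 𝒜).toIdeal.FG := by
  obtain ⟨s, hs, hdeg⟩ := GradedAlgebra.exists_finset_adjoin_eq_top_and_homogeneous_ne_zero 𝒜
  refine ⟨s, (irrelevant_eq_span_of_adjoin_eq_top 𝒜 (fun e he => ?_) hs).symm⟩
  obtain ⟨n, hn, hen⟩ := hdeg e he
  exact ⟨n, Nat.pos_of_ne_zero hn, hen⟩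

theorem finiteType_of_irrelevant_fg (hfg : (HomogeneousIdeal.irrelevant 𝒜).toIdeal.FG) :
    Algebra.FiniteType (𝒜 0) A := by
  obtain ⟨s, hs, hsp⟩ := exists_finset_span_eq_irrelevant 𝒜 hfg
  exact ⟨⟨s, adjoin_eq_top_of_irrelevant_le_span 𝒜 hs hsp.le⟩⟩

/-- Homogeneous elements of large degree lie in high powers of the irrelevant ideal. -/
theorem exists_degree_bound (hfg : (HomogeneousIdeal.irrelevant 𝒜).toIdeal.FG) (n : ℕ) :
    ∃ m₀ : ℕ, ∀ m : ℕ, m₀ ≤ m → ∀ a ∈ 𝒜 m, a ∈ (HomogeneousIdeal.irrelevant 𝒜).toIdeal ^ n := by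
  classical
  obtain ⟨s, hs, hsp⟩ := exists_finset_span_eq_irrelevant 𝒜 hfg
  choose! deg hpos hmem using hs
  set D := s.sup deg
  refine ⟨n * (D + 1), ?_⟩
  induction n with
  | zero => intro m _ a _; simp
  | succ n ih =>
    intro m hm a ha
    have hm1 : 0 < m := lt_of_lt_of_le (by positivity) hm
    have haI : a ∈ Ideal.span (s : Set A) := hsp ▸ HomogeneousIdeal.mem_irrelevant_of_mem 𝒜 hm1 ha
    obtain ⟨c, hc⟩ := (Finsupp.mem_span_iff_linearCombination A (s : Set A) a).mp haI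
    rw [← decompose_of_mem_same 𝒜 ha, ← hc, Finsupp.linearCombination_apply, Finsupp.sum,
      decompose_sum, DFinsupp.finsetSum_apply, AddSubmonoidClass.coe_finsetSum]
    refine sum_mem fun e _ => ?_
    rw [smul_eq_mul, decompose_mul_mem 𝒜 (hmem e e.2)]
    split_ifs with hle
    · rw [pow_succ]
      refine Ideal.mul_mem_mul (ih (m - deg e) ?_ _ (decompose 𝒜 _ _).2)
        (HomogeneousIdeal.mem_irrelevant_of_mem 𝒜 (hpos e e.2) (hmem e e.2))
      have h1 : deg e ≤ D := Finset.le_sup (f := deg) e.2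
      have h2 : (n + 1) * (D + 1) = n * (D + 1) + (D + 1) := by ring
      omega
    · exact zero_mem _

end Groth.Agent.GrBasics
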